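/- Products of conjugacy classes of coprime sizes. -/
import Mathlib

set_option autoImplicit false

namespace CfsgLib.ClassCoprime69

open Subgroup

variable {G : Type*} [Group G]

/-- The size of the conjugacy class of `u`. -/
noncomputable def cs (u : G) : ℕ := (centralizer ({u} : Set G)).index

/-- The conjugacy class of `u`. -/
def cls (u : G) : Set G := Set.range fun g => g * u * g⁻¹

theorem mem_Cx {g u : G} : g ∈ centralizer ({u} : Set G) ↔ g * u = u * g :=
  mem_centralizer_singleton_iff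

theorem mem_Cx_comm {g u : G} : g ∈ centralizer ({u} : Set G) ↔ u ∈ centralizer ({g} : Set G) := by
  rw [mem_Cx, mem_Cx]; exact eq_comm

theorem mem_Cx_self (u : G) : u ∈ centralizer ({u} : Set G) := mem_Cx.mpr rfl

theorem mem_Cx_iff_conj {g u : G} : g ∈ centralizer ({u} : Set G) ↔ g * u * g⁻¹ = u := by
  rw [mem_Cx, mul_inv_eq_iff_eq_mul]

theorem center_le_Cx (u : G) : center G ≤ centralizer ({u} : Set G) := center_le_centralizer _

theorem Cx_eq_top_iff {u : G} : centralizer ({u} : Set G) = ⊤ ↔ u ∈ center G := by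
  rw [eq_top_iff, mem_center_iff]
  exact ⟨fun h g => mem_Cx.mp (h (mem_top g)), fun h g _ => mem_Cx.mpr (h g)⟩

theorem cs_eq_one_iff {u : G} : cs u = 1 ↔ u ∈ center G := by
  rw [cs, index_eq_one, Cx_eq_top_iff]

theorem Cx_mul_central (u : G) {z : G} (hz : z ∈ center G) :
    centralizer ({u * z} : Set G) = centralizer ({u} : Set G) := by
  ext g
  rw [mem_Cx, mem_Cx, ← mul_assoc, mul_assoc u z g, ← mem_center_iff.mp hz g, ← mul_assoc,
    mul_left_inj]

theorem conj_mem_Cx_conj {g c u : G} (h : c ∈ centralizer ({u} : Set G)) :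
    g * c * g⁻¹ ∈ centralizer ({g * u * g⁻¹} : Set G) := by
  rw [mem_Cx] at h ⊢
  calc g * c * g⁻¹ * (g * u * g⁻¹) = g * (c * u) * g⁻¹ := by group
    _ = g * (u * c) * g⁻¹ := by rw [h]
    _ = g * u * g⁻¹ * (g * c * g⁻¹) := by group

theorem cs_conj (g u : G) : cs (g * u * g⁻¹) = cs u := by
  have : centralizer ({g * u * g⁻¹} : Set G) =
      (centralizer ({u} : Set G)).map (MulAut.conj g).toMonoidHom := by
    ext c
    rw [mem_map]
    refine ⟨fun h => ⟨g⁻¹ * c * g, ?_, by simp [mul_assoc]⟩, fun ⟨d, hd, e⟩ => e ▸ ?_⟩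
    · have := conj_mem_Cx_conj (g := g⁻¹) h
      rwa [inv_inv, show g⁻¹ * (g * u * g⁻¹) * g = u by group] at this
    · exact conj_mem_Cx_conj hd
  rw [cs, this]
  exact index_map_equiv (centralizer ({u} : Set G)) (MulAut.conj g)

theorem self_mem_cls (u : G) : u ∈ cls u := ⟨1, by simp⟩

theorem conj_mem_cls {u a : G} (g : G) (ha : a ∈ cls u) : g * a * g⁻¹ ∈ cls u := by
  obtain ⟨h, rfl⟩ := ha
  exact ⟨g * h, by group⟩

theorem cs_of_mem_cls {u a : G} (ha : a ∈ cls u) : cs a = cs u := by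
  obtain ⟨g, rfl⟩ := ha; exact cs_conj g u

theorem orderOf_of_mem_cls {u a : G} (ha : a ∈ cls u) : orderOf a = orderOf u := by
  obtain ⟨g, rfl⟩ := ha
  show orderOf ((MulAut.conj g) u) = _
  exact MulEquiv.orderOf_eq _ _

theorem card_cls (u : G) : Nat.card (cls u) = cs u := by
  symm
  let f : G ⧸ centralizer ({u} : Set G) → cls u := Quotient.lift (fun g => ⟨g * u * g⁻¹, g, rfl⟩) (by
    intro a b hab
    have h := mem_Cx_iff_conj.mp (QuotientGroup.leftRel_apply.mp hab)
    refine Subtype.ext ?_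
    show a * u * a⁻¹ = b * u * b⁻¹
    conv_lhs => rw [← h]
    group)
  refine Nat.card_congr (Equiv.ofBijective f ⟨?_, ?_⟩)
  · intro p q h
    induction p using Quotient.inductionOn with | _ a => ?_
    induction q using Quotient.inductionOn with | _ b => ?_
    have h' : a * u * a⁻¹ = b * u * b⁻¹ := congrArg Subtype.val h
    refine Quotient.sound (QuotientGroup.leftRel_apply.mpr (mem_Cx_iff_conj.mpr ?_))
    calc a⁻¹ * b * u * (a⁻¹ * b)⁻¹ = a⁻¹ * (b * u * b⁻¹) * a := by group
      _ = u := by rw [← h']; group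
  · rintro ⟨_, g, rfl⟩; exact ⟨(g : G ⧸ _), rfl⟩

/-- The subgroup generated by the quotients of two conjugates of `u`. -/
def wsub (u : G) : Subgroup G := closure {c | ∃ a ∈ cls u, ∃ b ∈ cls u, a⁻¹ * b = c}

theorem inv_mul_mem_wsub {u a b : G} (ha : a ∈ cls u) (hb : b ∈ cls u) : a⁻¹ * b ∈ wsub u :=
  subset_closure ⟨a, ha, b, hb, rfl⟩

instance wsub_normal (u : G) : (wsub u).Normal := by
  constructor
  intro w hw g
  have h : wsub u ≤ (wsub u).comap (MulAut.conj g).toMonoidHom := by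
    rw [wsub, closure_le]
    rintro _ ⟨a, ha, b, hb, rfl⟩
    show g * (a⁻¹ * b) * g⁻¹ ∈ wsub u
    rw [show g * (a⁻¹ * b) * g⁻¹ = (g * a * g⁻¹)⁻¹ * (g * b * g⁻¹) by group]
    exact inv_mul_mem_wsub (conj_mem_cls g ha) (conj_mem_cls g hb)
  exact h hw

variable [Finite G]

theorem cs_pos (u : G) : 0 < cs u := Nat.pos_of_ne_zero index_ne_zero_of_finite

omit [Finite G] in
theorem cs_dvd_of_le {a b : G} (h : centralizer ({a} : Set G) ≤ centralizer ({b} : Set G)) :
    cs b ∣ cs a :=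
  index_dvd_of_le h

theorem eq_of_le_of_cs_le {H : Subgroup G} {b : G} (h : H ≤ centralizer ({b} : Set G))
    (hc : H.index ≤ cs b) : H = centralizer ({b} : Set G) := by
  have h1 := relIndex_mul_index h
  have h2 : H.relIndex (centralizer ({b} : Set G)) = 1 := by
    have hp : 0 < H.relIndex (centralizer ({b} : Set G)) := Nat.pos_of_ne_zero fun h0 => by
      rw [h0, zero_mul] at h1; exact index_ne_zero_of_finite h1.symm
    by_contra hne
    have : 2 * cs b ≤ H.index := by
      rw [← h1]; exact Nat.mul_le_mul_right _ (by omega)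
    have := cs_pos b
    omega
  exact le_antisymm h (relIndex_eq_one.mp h2)

theorem relIndex_dvd_index_normal (W : Subgroup G) [W.Normal] (H : Subgroup G) :
    H.relIndex W ∣ H.index := by
  have h1 := relIndex_mul_index (inf_le_right : H ⊓ W ≤ W)
  have h2 := relIndex_mul_index (inf_le_left : H ⊓ W ≤ H)
  rw [inf_relIndex_right] at h1
  rw [inf_relIndex_left, ← h1] at h2
  obtain ⟨q, hq⟩ := relIndex_dvd_index_of_normal (H := W) (K := H)
  refine ⟨q, ?_⟩
  have h0 : W.relIndex H ≠ 0 := fun h0 => index_ne_zero_of_finite (H := W) (by rw [hq, h0, zero_mul])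
  refine mul_left_cancel₀ h0 ?_
  rw [h2, hq]; ring

theorem index_inf_of_coprime {u w : G} (h : (cs u).Coprime (cs w)) :
    (centralizer ({u} : Set G) ⊓ centralizer ({w} : Set G)).index = cs u * cs w :=
  le_antisymm index_inf_le (Nat.le_of_dvd (Nat.pos_of_ne_zero index_ne_zero_of_finite)
    (h.mul_dvd_of_dvd_of_dvd (index_dvd_of_le inf_le_left) (index_dvd_of_le inf_le_right)))

/-- `G = C(u) C(w)` for classes of coprime sizes. -/
theorem exists_mul {u w : G} (h : (cs u).Coprime (cs w)) (g : G) :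
    ∃ a ∈ centralizer ({u} : Set G), ∃ b ∈ centralizer ({w} : Set G), g = a * b := by
  set A := centralizer ({u} : Set G)
  set B := centralizer ({w} : Set G)
  let f : ↥A ⧸ B.subgroupOf A → G ⧸ B := Quotient.lift (fun a : A => ((a : G) : G ⧸ B)) (fun a b hab =>
    QuotientGroup.eq.mpr (mem_subgroupOf.mp
      (QuotientGroup.leftRel_apply.mp hab : a⁻¹ * b ∈ B.subgroupOf A)))
  have hinj : Function.Injective f := by
    intro p q hpq
    induction p using Quotient.inductionOn with | _ a => ?_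
    induction q using Quotient.inductionOn with | _ b => ?_
    exact Quotient.sound (QuotientGroup.leftRel_apply.mpr (QuotientGroup.eq.mp hpq : (a : G)⁻¹ * b ∈ B))
  have hcard : Nat.card (↥A ⧸ B.subgroupOf A) = Nat.card (G ⧸ B) := by
    have h1 := relIndex_mul_index (inf_le_left : A ⊓ B ≤ A)
    rw [inf_relIndex_left, index_inf_of_coprime h, mul_comm (cs u)] at h1
    exact Nat.eq_of_mul_eq_mul_right (cs_pos u) h1
  obtain ⟨p, hp⟩ := (hinj.bijective_of_nat_card_le hcard.ge).2 (g : G ⧸ B)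
  induction p using Quotient.inductionOn with | _ a => ?_
  exact ⟨a, a.2, (a : G)⁻¹ * g, QuotientGroup.eq.mp hp, by group⟩

theorem mul_mem_cls {u w a b : G} (h : (cs u).Coprime (cs w)) (ha : a ∈ cls u) (hb : b ∈ cls w) :
    a * b ∈ cls (u * w) := by
  obtain ⟨g, rfl⟩ := ha
  obtain ⟨k, rfl⟩ := hb
  obtain ⟨c, hc, d, hd, e⟩ := exists_mul h (g⁻¹ * k)
  refine ⟨g * c, ?_⟩
  have hk : k = g * c * d := by rw [mul_assoc g, ← e, mul_inv_cancel_left]
  calc g * c * (u * w) * (g * c)⁻¹
      = g * (c * u * c⁻¹) * g⁻¹ * (g * c * (d * w * d⁻¹) * c⁻¹ * g⁻¹) := by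
        rw [mem_Cx_iff_conj.mp hd]; group
    _ = g * u * g⁻¹ * (k * w * k⁻¹) := by rw [mem_Cx_iff_conj.mp hc, hk]; group

theorem cs_le_cs_mul_right {u w : G} (h : (cs u).Coprime (cs w)) : cs w ≤ cs (u * w) := by
  rw [← card_cls w, ← card_cls (u * w)]
  exact Nat.card_le_card_of_injective
    (fun b : cls w => (⟨u * b, mul_mem_cls h (self_mem_cls u) b.2⟩ : cls (u * w)))
    (fun a b e => Subtype.ext (mul_left_cancel (congrArg Subtype.val e)))

theorem cs_le_cs_mul_left {u w : G} (h : (cs u).Coprime (cs w)) : cs u ≤ cs (u * w) := by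
  rw [← card_cls u, ← card_cls (u * w)]
  exact Nat.card_le_card_of_injective
    (fun a : cls u => (⟨a * w, mul_mem_cls h a.2 (self_mem_cls w)⟩ : cls (u * w)))
    (fun a b e => Subtype.ext (mul_right_cancel (congrArg Subtype.val e)))

theorem cs_mul_dvd {u w : G} (h : (cs u).Coprime (cs w)) : cs (u * w) ∣ cs u * cs w := by
  rw [← index_inf_of_coprime h]
  refine index_dvd_of_le fun g hg => ?_
  obtain ⟨h1, h2⟩ := mem_inf.mp hg
  exact mem_Cx.mpr (Commute.mul_right (mem_Cx.mp h1) (mem_Cx.mp h2)).eq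

open scoped Pointwise in
/-- A subgroup whose left translations preserve a class has order dividing the class size. -/
theorem card_dvd_cs {u : G} (S : Subgroup G) (hst : ∀ s ∈ S, ∀ b ∈ cls u, s * b ∈ cls u) :
    Nat.card S ∣ cs u := by
  let t : Set (G ⧸ S) := (QuotientGroup.mk : G → G ⧸ S) '' (cls u)⁻¹
  have hpre : (QuotientGroup.mk : G → G ⧸ S) ⁻¹' t = (cls u)⁻¹ := by
    refine Set.Subset.antisymm ?_ (Set.subset_preimage_image _ _)
    rintro g ⟨b, hb, e⟩
    have h1 := hst _ (S.inv_mem (QuotientGroup.eq.mp e)) _ (Set.mem_inv.mp hb)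
    rw [mul_inv_rev, inv_inv, mul_assoc, mul_inv_cancel, mul_one] at h1
    exact Set.mem_inv.mpr h1
  refine ⟨Nat.card t, ?_⟩
  have h2 := Nat.card_congr (QuotientGroup.preimageMkEquivSubgroupProdSet S t)
  rw [Nat.card_prod, hpre, Nat.card_coe_set_eq, Set.ncard_inv, ← Nat.card_coe_set_eq, card_cls] at h2
  exact h2

open scoped Pointwise in
theorem card_wsub_dvd {u w : G} (h : (cs u).Coprime (cs w)) (he : cs (u * w) = cs w) :
    Nat.card (wsub u) ∣ cs w := by
  let S : Subgroup G := MulAction.stabilizer G (cls w)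
  have himg : ∀ a ∈ cls u, a • cls w = cls (u * w) := by
    intro a ha
    refine Set.eq_of_subset_of_ncard_le ?_ (le_of_eq ?_) (Set.toFinite _)
    · rintro _ ⟨b, hb, rfl⟩; exact mul_mem_cls h ha hb
    · rw [Set.ncard_smul_set, ← Nat.card_coe_set_eq, ← Nat.card_coe_set_eq, card_cls, card_cls, he]
  have hWS : wsub u ≤ S := by
    rw [wsub, closure_le]
    rintro _ ⟨a, ha, b, hb, rfl⟩
    show (a⁻¹ * b) • cls w = cls w
    rw [mul_smul, himg b hb, ← himg a ha, inv_smul_smul]
  refine (card_dvd_of_le hWS).trans (card_dvd_cs S fun s hs b hb => ?_)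
  rw [← (MulAction.mem_stabilizer_iff.mp hs : s • cls w = cls w)]
  exact ⟨b, hb, rfl⟩

/-- Consequences of equality in the product lemma. -/
theorem product_facts {u w : G} (h : (cs u).Coprime (cs w)) (he : cs (u * w) = cs w) :
    ∀ a ∈ cls u, ∀ b ∈ cls u, Commute a b ∧ (a⁻¹ * b) ^ cs w = 1 ∧
      (a⁻¹ * b) ^ orderOf u = 1 := by
  intro a ha b hb
  have hW : wsub u ≤ centralizer ({a} : Set G) := by
    rw [← relIndex_eq_one]
    refine Nat.eq_one_of_dvd_coprimes h ?_ ((relIndex_dvd_card _ _).trans (card_wsub_dvd h he))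
    exact cs_of_mem_cls ha ▸ relIndex_dvd_index_normal (wsub u) (centralizer ({a} : Set G))
  have hc : Commute (a⁻¹ * b) a := mem_Cx.mp (hW (inv_mul_mem_wsub ha hb))
  have hab : Commute a b := by
    have := (Commute.refl a).mul_right hc.symm
    rwa [mul_inv_cancel_left] at this
  refine ⟨hab, ?_, ?_⟩
  · refine orderOf_dvd_iff_pow_eq_one.mp (dvd_trans ?_ (card_wsub_dvd h he))
    exact Subgroup.orderOf_dvd_natCard (wsub u) (inv_mul_mem_wsub ha hb)
  · have ea : a ^ orderOf u = 1 := orderOf_of_mem_cls ha ▸ pow_orderOf_eq_one a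
    have eb : b ^ orderOf u = 1 := orderOf_of_mem_cls hb ▸ pow_orderOf_eq_one b
    rw [hab.inv_left.mul_pow, inv_pow, ea, eb, inv_one, one_mul]

theorem mem_center_of_product {u w : G} (h : (cs u).Coprime (cs w)) (he : cs (u * w) = cs w)
    (ho : (orderOf u).Coprime (cs w)) : u ∈ center G := by
  refine mem_center_iff.mpr fun g => ?_
  obtain ⟨-, h1, h2⟩ := product_facts h he u (self_mem_cls u) (g * u * g⁻¹)
    (conj_mem_cls g (self_mem_cls u))
  have h3 : u⁻¹ * (g * u * g⁻¹) = 1 := orderOf_eq_one_iff.mp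
    (Nat.eq_one_of_dvd_coprimes ho (orderOf_dvd_of_pow_eq_one h2) (orderOf_dvd_of_pow_eq_one h1))
  rw [inv_mul_eq_one] at h3
  exact mul_inv_eq_iff_eq_mul.mp h3.symm

end CfsgLib.ClassCoprime69
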