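/- Groups whose two largest class sizes are coprime: element classification. -/
import Cfsg.Agent.ClassCoprime69.Basic
import Cfsg.Agent.PiClasses69.Parts
import Cfsg.Agent.PiClasses69.PTools

set_option autoImplicit false

namespace CfsgLib.ClassCoprime69

open Subgroup CfsgLib.PiClasses69

variable {G : Type*} [Group G] [Finite G]

theorem mem_of_pow_mem_of_coprime {H : Subgroup G} {g : G} {k : ℕ} (hk : (orderOf g).Coprime k)
    (h : g ^ k ∈ H) : g ∈ H :=
  CfsgLib.PTools69.mem_of_pow_mem hk.symm h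

theorem Cx_eq_inf (π : Set ℕ) (g : G) : centralizer ({g} : Set G) =
    centralizer ({piPart π g} : Set G) ⊓ centralizer ({piComplPart π g} : Set G) := by
  ext c
  simp only [mem_inf, mem_Cx]
  refine ⟨fun h => ⟨commute_piPart π h, commute_piComplPart π h⟩, fun ⟨h1, h2⟩ => ?_⟩
  have := Commute.mul_right h1 h2
  rw [piPart_mul π g] at this
  exact this

theorem Cx_mul_eq_inf {π : Set ℕ} {a b : G} (ha : IsPi π a) (hb : IsPiCompl π b) (hc : Commute a b) :
    centralizer ({a * b} : Set G) = centralizer ({a} : Set G) ⊓ centralizer ({b} : Set G) := by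
  obtain ⟨e1, e2⟩ := piPart_of_commute π ha hb hc
  rw [Cx_eq_inf π (a * b), e1, e2]

/-- The primes dividing `m`. -/
def piOf (m : ℕ) : Set ℕ := {q | q ∣ m}

theorem isPi_coprime {m n : ℕ} (h : m.Coprime n) {g : G} (hg : IsPi (piOf m) g) :
    (orderOf g).Coprime n :=
  Nat.coprime_of_dvd fun q hq h1 h2 => Nat.Prime.not_dvd_one hq (h ▸ Nat.dvd_gcd (hg q hq h1) h2)

theorem isPiCompl_coprime {m : ℕ} {g : G} (hg : IsPiCompl (piOf m) g) : (orderOf g).Coprime m :=
  Nat.coprime_of_dvd fun q hq h1 h2 => hg q hq h1 h2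

/-- The two largest class sizes are `m > n`, and they are coprime. -/
structure Hyp (G : Type*) [Group G] (m n : ℕ) : Prop where
  lt : n < m
  one_lt : 1 < n
  cop : m.Coprime n
  top : ∀ z : G, cs z ≤ m
  second : ∀ z : G, cs z < m → cs z ≤ n
  ex_n : ∃ x : G, cs x = n
  ex_m : ∃ y : G, cs y = m

variable {m n : ℕ} (h : Hyp G m n)
include h

theorem Hyp.not_n_dvd : ¬ n ∣ m := fun hd => by
  have := Nat.eq_one_of_dvd_coprimes h.cop hd dvd_rfl
  have := h.one_lt; omega

theorem Hyp.not_m_dvd : ¬ m ∣ n := fun hd => by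
  have := Nat.le_of_dvd (by have := h.one_lt; omega) hd
  have := h.lt; omega

theorem Hyp.n_facts {u : G} (hu : cs u = n) :
    ∀ a ∈ cls u, ∀ b ∈ cls u, Commute a b ∧ (a⁻¹ * b) ^ m = 1 := by
  obtain ⟨y, hy⟩ := h.ex_m
  have hc : (cs u).Coprime (cs y) := by rw [hu, hy]; exact h.cop.symm
  have he : cs (u * y) = cs y := le_antisymm (hy ▸ h.top _) (cs_le_cs_mul_right hc)
  intro a ha b hb
  obtain ⟨h1, h2, -⟩ := product_facts hc he a ha b hb
  exact ⟨h1, hy ▸ h2⟩

/-- A `π'`-element with class size coprime to `m` is central. -/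
theorem Hyp.piCompl_central {v : G} (hv : IsPiCompl (piOf m) v) (hc : (cs v).Coprime m) :
    v ∈ center G := by
  obtain ⟨y, hy⟩ := h.ex_m
  rw [← hy] at hc
  refine mem_center_of_product hc (le_antisymm (hy ▸ h.top _) (cs_le_cs_mul_right hc)) ?_
  rw [hy]; exact isPiCompl_coprime hv

theorem Hyp.piPart_n {u : G} (hu : cs u = n) : piComplPart (piOf m) u ∈ center G ∧
    centralizer ({piPart (piOf m) u} : Set G) = centralizer ({u} : Set G) := by
  have hq : piComplPart (piOf m) u ∈ center G := by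
    refine h.piCompl_central (isPiCompl_piComplPart _ u) (Nat.Coprime.coprime_dvd_left ?_ h.cop.symm)
    rw [← hu]
    exact cs_dvd_of_le (Cx_eq_inf (piOf m) u ▸ inf_le_right)
  refine ⟨hq, ?_⟩
  conv_rhs => rw [← piPart_mul (piOf m) u, Cx_mul_central _ hq]

theorem Hyp.ex_pi_n : ∃ x : G, IsPi (piOf m) x ∧ cs x = n := by
  obtain ⟨x, hx⟩ := h.ex_n
  exact ⟨_, isPi_piPart _ x, by rw [cs, (h.piPart_n hx).2]; exact hx⟩

theorem Hyp.eq_one_of_mem_cls {u z : G} (hu : cs u = n) (hz : z ∈ center G) (he : u * z ∈ cls u) :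
    z = 1 := by
  have h1 : z ^ m = 1 := by
    simpa using (h.n_facts hu u (self_mem_cls u) (u * z) he).2
  have h2 : orderOf z ∣ n := by
    rw [← Nat.card_zpowers, ← hu]
    refine card_dvd_cs _ ?_
    have hz1 : ∀ b ∈ cls u, z * b ∈ cls u := by
      rintro _ ⟨g, rfl⟩
      have := conj_mem_cls g he
      rw [show g * (u * z) * g⁻¹ = g * u * (z * g⁻¹) by group, ← mem_center_iff.mp hz g⁻¹,
        ← mul_assoc] at this
      show z * (g * u * g⁻¹) ∈ cls u
      rw [← mem_center_iff.mp hz (g * u * g⁻¹)]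
      exact this
    intro s hs
    obtain ⟨i, rfl⟩ := (Submonoid.mem_powers_iff _ _).mp (mem_powers_iff_mem_zpowers.mpr hs)
    induction i with
    | zero => simp
    | succ i ih =>
      intro b hb
      rw [pow_succ, mul_assoc]
      exact ih (pow_mem (mem_zpowers z) i) _ (hz1 b hb)
  exact orderOf_eq_one_iff.mp (Nat.eq_one_of_dvd_coprimes h.cop (orderOf_dvd_of_pow_eq_one h1) h2)

/-- The centralizer of a `π`-element of class size `n` has only central `π'`-elements. -/
theorem Hyp.no_piCompl {u v : G} (hu : IsPi (piOf m) u) (hun : cs u = n)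
    (hv : IsPiCompl (piOf m) v) (hc : v ∈ centralizer ({u} : Set G)) : v ∈ center G := by
  have hC := Cx_mul_eq_inf hu hv (mem_Cx.mp (mem_Cx_comm.mp hc))
  have hd : n ∣ cs (u * v) := hun ▸ cs_dvd_of_le (hC ▸ inf_le_left)
  have hlt : cs (u * v) < m :=
    lt_of_le_of_ne (h.top _) fun e => h.not_n_dvd (e ▸ hd)
  have e : centralizer ({u * v} : Set G) = centralizer ({u} : Set G) :=
    eq_of_le_of_cs_le (hC ▸ inf_le_left) (hun ▸ h.second _ hlt)
  refine h.piCompl_central hv (Nat.Coprime.coprime_dvd_left ?_ h.cop.symm)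
  rw [← hun]
  exact cs_dvd_of_le (e ▸ (hC ▸ inf_le_right))

/-- A `π`-element of class size less than `m` and coprime to `n` is central. -/
theorem Hyp.pi_central {u : G} (hu : IsPi (piOf m) u) (hlt : cs u < m) (hc : (cs u).Coprime n) :
    u ∈ center G := by
  obtain ⟨x, hx⟩ := h.ex_n
  rw [← hx] at hc
  have h1 : cs (u * x) < m := by
    refine lt_of_le_of_ne (h.top _) fun e => ?_
    have hd := cs_mul_dvd hc
    rw [e, hx] at hd
    have := Nat.le_of_dvd (cs_pos u) (h.cop.dvd_of_dvd_mul_right hd)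
    omega
  refine mem_center_of_product hc (le_antisymm (hx ▸ h.second _ h1) (cs_le_cs_mul_right hc)) ?_
  rw [hx]; exact isPi_coprime h.cop hu

/-- Non-central `π'`-elements have class size `m`. -/
theorem Hyp.cs_piCompl {v : G} (hv : IsPiCompl (piOf m) v) (hvc : v ∉ center G) : cs v = m := by
  by_contra hne
  have hvn : cs v ≤ n := h.second _ (lt_of_le_of_ne (h.top _) hne)
  obtain ⟨x, hxπ, hx⟩ := h.ex_pi_n
  have hclsπ : ∀ a ∈ cls x, IsPi (piOf m) a := fun a ha q hq hd =>
    hxπ q hq (orderOf_of_mem_cls ha ▸ hd)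
  set V := closure (cls x) with hV
  have hVc : ∀ a ∈ V, ∀ b ∈ V, Commute a b := by
    have h1 : V ≤ centralizer (cls x) := by
      rw [hV, closure_le]
      exact fun a ha => mem_centralizer_iff.mpr fun b hb => (h.n_facts hx b hb a ha).1
    have h2 : V ≤ centralizer (V : Set G) := by
      conv_lhs => rw [hV]
      rw [closure_le]
      exact fun a ha => mem_centralizer_iff.mpr fun b hb => (mem_centralizer_iff.mp (h1 hb) a ha).symm
    exact fun a ha b hb => (mem_centralizer_iff.mp (h2 ha) b hb).symm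
  have hVn : ∀ g : G, ∀ a ∈ V, g * a * g⁻¹ ∈ V := by
    intro g a ha
    have h1 : V ≤ V.comap (MulAut.conj g).toMonoidHom := by
      conv_lhs => rw [hV]
      rw [closure_le]
      exact fun b hb => subset_closure (conj_mem_cls g hb)
    exact h1 ha
  have hVexp : ∀ a ∈ V, a ^ orderOf x = 1 := by
    intro a ha
    induction ha using closure_induction with
    | mem a ha => exact orderOf_of_mem_cls ha ▸ pow_orderOf_eq_one a
    | one => exact one_pow _
    | mul a b ha hb e1 e2 => rw [(hVc a ha b hb).mul_pow, e1, e2, one_mul]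
    | inv a _ e => rw [inv_pow, e, inv_one]
  have hφV : ∀ a ∈ V, a * v * a⁻¹ * v⁻¹ ∈ V := fun a ha => by
    rw [mul_assoc, mul_assoc, ← mul_assoc v]
    exact mul_mem ha (hVn v _ (inv_mem ha))
  let φ : V →* G :=
    { toFun := fun a => (a : G) * v * (a : G)⁻¹ * v⁻¹
      map_one' := by simp
      map_mul' := fun a b => by
        show (a : G) * b * v * ((a : G) * b)⁻¹ * v⁻¹ = _
        calc (a : G) * b * v * ((a : G) * b)⁻¹ * v⁻¹
            = (a : G) * ((b : G) * v * (b : G)⁻¹ * v⁻¹) * (v * (a : G)⁻¹ * v⁻¹) := by group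
          _ = (b : G) * v * (b : G)⁻¹ * v⁻¹ * (a : G) * (v * (a : G)⁻¹ * v⁻¹) := by
              rw [(hVc a a.2 _ (hφV b b.2)).eq]
          _ = (b : G) * v * (b : G)⁻¹ * v⁻¹ * ((a : G) * v * (a : G)⁻¹ * v⁻¹) := by group
          _ = _ := (hVc _ (hφV b b.2) _ (hφV a a.2)).eq }
  set T := φ.range with hT
  have hTV : T ≤ V := by
    rintro _ ⟨a, rfl⟩; exact hφV a a.2
  have hTC : ∀ t ∈ T, t ∈ centralizer ({v} : Set G) → t = 1 := by
    rintro _ ⟨a, rfl⟩ hc
    change (a : G) * v * (a : G)⁻¹ * v⁻¹ ∈ _ at hc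
    show (a : G) * v * (a : G)⁻¹ * v⁻¹ = 1
    set t := (a : G) * v * (a : G)⁻¹ * v⁻¹ with ht
    have h2 : t ^ orderOf v = 1 := by
      have e1 : ((a : G) * v * (a : G)⁻¹) ^ orderOf v = 1 := by
        rw [conj_pow, pow_orderOf_eq_one, mul_one, mul_inv_cancel]
      rw [show (a : G) * v * (a : G)⁻¹ = t * v by rw [ht]; group,
        Commute.mul_pow (mem_Cx.mp hc), pow_orderOf_eq_one, mul_one] at e1
      exact e1
    have h3 := hVexp t (hφV a a.2)
    refine orderOf_eq_one_iff.mp (Nat.eq_one_of_dvd_coprimes ?_ (orderOf_dvd_of_pow_eq_one h3)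
      (orderOf_dvd_of_pow_eq_one h2))
    exact Nat.coprime_of_dvd fun q hq h1 h2' => isPiCompl_piComplPart (piOf m) v q hq (by
      have : piComplPart (piOf m) v = v := by
        simpa using (piPart_of_commute (piOf m) (fun r hr hd => absurd
          (orderOf_one (G := G) ▸ hd) hr.not_dvd_one) hv (Commute.one_left v)).2
      rw [this]; exact h2') (hxπ q hq h1)
  have hdec : ∀ a ∈ V, ∃ c t : G, a = c * t ∧ c ∈ V ∧ c ∈ centralizer ({v} : Set G) ∧ t ∈ T := by
    intro a ha
    let ψ : T → T := fun t => ⟨φ ⟨t, hTV t.2⟩, ⟨_, rfl⟩⟩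
    have hψ : Function.Injective ψ := by
      intro s t e
      have e' : φ ⟨s, hTV s.2⟩ = φ ⟨t, hTV t.2⟩ := congrArg Subtype.val e
      refine Subtype.ext (mul_inv_eq_one.mp (hTC _ (mul_mem s.2 (inv_mem t.2)) ?_))
      have e1 : φ (⟨s, hTV s.2⟩ * (⟨t, hTV t.2⟩)⁻¹) = 1 := by
        rw [map_mul, map_inv, e', mul_inv_cancel]
      exact mem_Cx_iff_conj.mpr (mul_inv_eq_one.mp e1)
    obtain ⟨t, ht⟩ := (Finite.injective_iff_surjective.mp hψ) ⟨φ ⟨a, ha⟩, ⟨_, rfl⟩⟩
    have e1 : φ (⟨a, ha⟩ * (⟨t, hTV t.2⟩)⁻¹) = 1 := by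
      have : φ ⟨t, hTV t.2⟩ = φ ⟨a, ha⟩ := congrArg Subtype.val ht
      rw [map_mul, map_inv, this, mul_inv_cancel]
    exact ⟨a * (t : G)⁻¹, t, by group, mul_mem ha (inv_mem (hTV t.2)),
      mem_Cx_iff_conj.mpr (mul_inv_eq_one.mp e1), t.2⟩
  have hTv : Nat.card T ≤ cs v := by
    rw [← card_cls v]
    refine Nat.card_le_card_of_injective (fun t : T => (⟨t * v, ?_⟩ : cls v))
      (fun a b e => Subtype.ext (mul_right_cancel (congrArg Subtype.val e)))
    obtain ⟨a, ha⟩ := t.2
    exact ⟨a, by rw [← ha]; show (a : G) * v * (a : G)⁻¹ = (a : G) * v * (a : G)⁻¹ * v⁻¹ * v; group⟩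
  have hkey : ∀ a ∈ cls x, ∀ c t : G, a = c * t → c ∈ V → c ∈ centralizer ({v} : Set G) → t ∈ T →
      c ∈ center G ∧ t ≠ 1 := by
    intro a ha c t hact hcV hcv htT
    have hav : a ∉ centralizer ({v} : Set G) := fun hh =>
      hvc (h.no_piCompl (hclsπ a ha) ((cs_of_mem_cls ha).trans hx) hv (mem_Cx_comm.mp hh))
    have ht1 : t ≠ 1 := fun e => hav (by rw [hact, e, mul_one]; exact hcv)
    refine ⟨?_, ht1⟩
    have hcπ : IsPi (piOf m) c := fun q hq hd =>
      hxπ q hq (hd.trans (orderOf_dvd_of_pow_eq_one (hVexp c hcV)))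
    have hC := Cx_mul_eq_inf hcπ hv (mem_Cx.mp hcv)
    set S := centralizer ({c * v} : Set G) with hS
    set S0 := S ⊓ centralizer ({t} : Set G) with hS0
    have hconjT : ∀ s ∈ centralizer ({v} : Set G), ∀ r ∈ T, s * r * s⁻¹ ∈ T := by
      rintro s hs _ ⟨b, rfl⟩
      refine ⟨⟨s * b * s⁻¹, hVn s b b.2⟩, ?_⟩
      show s * b * s⁻¹ * v * (s * (b : G) * s⁻¹)⁻¹ * v⁻¹ = s * ((b : G) * v * (b : G)⁻¹ * v⁻¹) * s⁻¹
      have hv' : s * v * s⁻¹ = v := mem_Cx_iff_conj.mp hs
      calc s * b * s⁻¹ * v * (s * (b : G) * s⁻¹)⁻¹ * v⁻¹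
          = s * b * s⁻¹ * (s * v * s⁻¹) * (s * (b : G) * s⁻¹)⁻¹ * (s * v * s⁻¹)⁻¹ := by rw [hv']
        _ = _ := by group
    have hSv : S ≤ centralizer ({v} : Set G) := hC.le.trans inf_le_right
    have hcard1 : (centralizer ({t} : Set G)).relIndex S ≤ Nat.card {r : T // r ≠ 1} := by
      let f : ↥S ⧸ (centralizer ({t} : Set G)).subgroupOf S → {r : T // r ≠ 1} :=
        Quotient.lift (fun s : S => ⟨⟨s * t * (s : G)⁻¹, hconjT s (hSv s.2) t htT⟩, fun e => ht1
          (conj_eq_one_iff.mp (congrArg Subtype.val e))⟩) (by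
          intro a b hab
          have hd := mem_Cx_iff_conj.mp (mem_subgroupOf.mp
            (QuotientGroup.leftRel_apply.mp hab : a⁻¹ * b ∈ (centralizer ({t} : Set G)).subgroupOf S))
          refine Subtype.ext (Subtype.ext ?_)
          show (a : G) * t * (a : G)⁻¹ = b * t * (b : G)⁻¹
          conv_lhs => rw [← hd]
          simp only [Subgroup.coe_mul, Subgroup.coe_inv]
          group)
      refine Nat.card_le_card_of_injective f ?_
      intro p q e
      induction p using Quotient.inductionOn with | _ a => ?_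
      induction q using Quotient.inductionOn with | _ b => ?_
      have e' : (a : G) * t * (a : G)⁻¹ = b * t * (b : G)⁻¹ :=
        congrArg (fun r : {r : T // r ≠ 1} => ((r : T) : G)) e
      refine Quotient.sound (QuotientGroup.leftRel_apply.mpr (mem_subgroupOf.mpr (mem_Cx_iff_conj.mpr ?_)))
      simp only [Subgroup.coe_mul, Subgroup.coe_inv]
      calc (a : G)⁻¹ * b * t * ((a : G)⁻¹ * b)⁻¹ = (a : G)⁻¹ * (b * t * (b : G)⁻¹) * a := by group
        _ = t := by rw [← e']; group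
    have hcard2 : Nat.card S0 * Nat.card T ≤ Nat.card (centralizer ({a} : Set G)) := by
      rw [← Nat.card_prod]
      refine Nat.card_le_card_of_injective (fun p : S0 × T => (⟨p.1 * p.2, mul_mem ?_ ?_⟩ :
        centralizer ({a} : Set G))) ?_
      · obtain ⟨h1, h2⟩ := mem_inf.mp p.1.2
        rw [hC] at h1
        rw [hact]
        exact mem_Cx.mpr (Commute.mul_right (mem_Cx.mp (mem_inf.mp h1).1) (mem_Cx.mp h2)).eq
      · exact mem_Cx.mpr (hVc _ (hTV p.2.2) a (subset_closure ha)).eq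
      · intro p q e
        have e' : (p.1 : G) * p.2 = q.1 * q.2 := congrArg Subtype.val e
        have hmem : ((q.1 : G))⁻¹ * p.1 ∈ centralizer ({v} : Set G) :=
          mul_mem (inv_mem (hSv (mem_inf.mp q.1.2).1)) (hSv (mem_inf.mp p.1.2).1)
        have e2 : (q.2 : G) * (p.2 : G)⁻¹ = (q.1 : G)⁻¹ * p.1 := by
          rw [eq_inv_mul_iff_mul_eq, ← mul_assoc, ← e', mul_inv_cancel_right]
        have e3 : (q.2 : G) = p.2 :=
          mul_inv_eq_one.mp (hTC _ (mul_mem q.2.2 (inv_mem p.2.2)) (e2 ▸ hmem))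
        exact Prod.ext (Subtype.ext (by rw [e3] at e'; exact mul_right_cancel e')) (Subtype.ext e3.symm)
    have hT1 : Nat.card {r : T // r ≠ 1} < Nat.card T := Finite.card_subtype_lt (x := 1) (by simp)
    have hSmul : Nat.card S0 * (centralizer ({t} : Set G)).relIndex S = Nat.card S := by
      rw [← relIndex_bot_left, ← relIndex_bot_left, ← inf_relIndex_left S (centralizer ({t} : Set G))]
      exact relIndex_mul_relIndex _ _ _ bot_le inf_le_left
    have hSlt : Nat.card S < Nat.card (centralizer ({a} : Set G)) :=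
      calc Nat.card S = Nat.card S0 * (centralizer ({t} : Set G)).relIndex S := hSmul.symm
        _ < Nat.card S0 * Nat.card T :=
            Nat.mul_lt_mul_of_pos_left (lt_of_le_of_lt hcard1 hT1) Nat.card_pos
        _ ≤ _ := hcard2
    have hSm : cs (c * v) = m := by
      by_contra hne'
      have h1 := h.second _ (lt_of_le_of_ne (h.top _) hne')
      have h2 : cs (c * v) * Nat.card S = cs a * Nat.card (centralizer ({a} : Set G)) := by
        rw [cs, cs, ← hS, S.index_mul_card, index_mul_card]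
      rw [cs_of_mem_cls ha, hx] at h2
      have : cs (c * v) * Nat.card S < n * Nat.card (centralizer ({a} : Set G)) :=
        lt_of_le_of_lt (Nat.mul_le_mul_right _ h1) (Nat.mul_lt_mul_of_pos_left hSlt (by have := h.one_lt; omega))
      omega
    have hle : S ≤ centralizer ({c} : Set G) := hC.le.trans inf_le_left
    refine h.pi_central hcπ (lt_of_le_of_ne (h.top _) fun e => hav ?_)
      (Nat.Coprime.coprime_dvd_left (hSm ▸ cs_dvd_of_le hle) h.cop)
    have e1 : S = centralizer ({c} : Set G) := eq_of_le_of_cs_le hle (by rw [e, ← hSm]; rfl)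
    exact hSv (e1 ▸ mem_Cx.mpr (hVc a (subset_closure ha) c hcV).eq)
  have hdec' : ∀ a : cls x, ∃ c t : G, (a : G) = c * t ∧ c ∈ center G ∧ t ∈ T ∧ t ≠ 1 := by
    intro a
    obtain ⟨c, t, h1, h2, h3, h4⟩ := hdec a (subset_closure a.2)
    exact ⟨c, t, h1, (hkey a a.2 c t h1 h2 h3 h4).1, h4, (hkey a a.2 c t h1 h2 h3 h4).2⟩
  choose fc ft hf1 hf2 hf3 hf4 using hdec'
  have hinj : Nat.card (cls x) ≤ Nat.card {r : T // r ≠ 1} := by
    refine Nat.card_le_card_of_injective
      (fun a => ⟨⟨ft a, hf3 a⟩, fun e => hf4 a (congrArg Subtype.val e)⟩) ?_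
    intro a b e
    have e' : ft a = ft b := congrArg (fun r : {r : T // r ≠ 1} => ((r : T) : G)) e
    have hb : (b : G) = a * ((fc a)⁻¹ * fc b) := by
      rw [hf1 a, hf1 b, e', mul_assoc (fc a), mem_center_iff.mp (mul_mem (inv_mem (hf2 a)) (hf2 b))]
      group
    have ha' : ∀ w ∈ cls x, cls (w : G) = cls x := by
      rintro _ ⟨g, rfl⟩
      refine Set.Subset.antisymm ?_ ?_
      · rintro _ ⟨k, rfl⟩; exact ⟨k * g, by group⟩
      · rintro _ ⟨k, rfl⟩; exact ⟨k * g⁻¹, by group⟩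
    have := h.eq_one_of_mem_cls ((cs_of_mem_cls a.2).trans hx)
      (mul_mem (inv_mem (hf2 a)) (hf2 b)) (by rw [← hb, ha' a a.2]; exact b.2)
    exact Subtype.ext (by rw [hb, this, mul_one])
  have hT1 : Nat.card {r : T // r ≠ 1} < Nat.card T := Finite.card_subtype_lt (x := 1) (by simp)
  rw [card_cls, hx] at hinj
  omega

end CfsgLib.ClassCoprime69
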