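/- Groups whose two largest class sizes are coprime: the two centralizers and the quotient. -/
import Cfsg.Agent.ClassCoprime69.Core

set_option autoImplicit false

namespace CfsgLib.ClassCoprime69

open Subgroup CfsgLib.PiClasses69

variable {G : Type*} [Group G] [Finite G] {m n : ℕ} (h : Hyp G m n)
include h

theorem Hyp.ex_piCompl : ∃ v : G, IsPiCompl (piOf m) v ∧ v ∉ center G := by
  by_contra hne
  push Not at hne
  obtain ⟨y, hy⟩ := h.ex_m
  obtain ⟨x, hx⟩ := h.ex_n
  obtain ⟨r, hr, hrn⟩ := Nat.exists_prime_and_dvd (n := n) (by have := h.one_lt; omega)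
  haveI := Fact.mk hr
  obtain ⟨P⟩ : Nonempty (Sylow r G) := inferInstance
  have hP : (P : Subgroup G) ≤ centralizer ({x} : Set G) := by
    intro g hg
    refine center_le_Cx x (hne g fun q hq hd hqm => ?_)
    obtain ⟨k, hk⟩ := IsPGroup.iff_orderOf.mp P.isPGroup' ⟨g, hg⟩
    rw [Subgroup.orderOf_mk] at hk
    rw [hk] at hd
    have e : q = r := (Nat.prime_dvd_prime_iff_eq hq hr).mp (hq.dvd_of_dvd_pow hd)
    subst e
    exact hq.not_dvd_one (h.cop ▸ Nat.dvd_gcd hqm hrn)
  exact P.not_dvd_index (hrn.trans (hx ▸ index_dvd_of_le hP))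

/-- The two centralizers meet in the centre. -/
theorem Hyp.inter {u v : G} (hu : cs u = n) (hv : IsPiCompl (piOf m) v) (hvc : v ∉ center G) :
    centralizer ({u} : Set G) ⊓ centralizer ({v} : Set G) = center G := by
  refine le_antisymm ?_ (le_inf (center_le_Cx u) (center_le_Cx v))
  have hvm := h.cs_piCompl hv hvc
  obtain ⟨-, hC⟩ := h.piPart_n hu
  set p := piPart (piOf m) u
  have hpn : cs p = n := by rw [cs, hC]; exact hu
  intro d hd
  obtain ⟨hdu, hdv⟩ := mem_inf.mp hd
  rw [← hC] at hdu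
  have hq : piComplPart (piOf m) d ∈ center G :=
    h.no_piCompl (isPi_piPart _ u) hpn (isPiCompl_piComplPart _ d)
      (mem_Cx.mpr (commute_piComplPart _ (mem_Cx.mp hdu).symm).symm.eq)
  rw [← piPart_mul (piOf m) d]
  refine mul_mem ?_ hq
  set a := piPart (piOf m) d
  have hav : Commute a v := (commute_piPart _ (mem_Cx.mp hdv).symm).symm
  have hap : Commute a p := (commute_piPart _ (mem_Cx.mp hdu).symm).symm
  have hCav := Cx_mul_eq_inf (isPi_piPart (piOf m) d) hv hav
  have hle : centralizer ({a * v} : Set G) ≤ centralizer ({v} : Set G) := hCav.le.trans inf_le_right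
  have e : centralizer ({a * v} : Set G) = centralizer ({v} : Set G) :=
    eq_of_le_of_cs_le hle (hvm ▸ h.top _)
  have hva : centralizer ({v} : Set G) ≤ centralizer ({a} : Set G) :=
    (e.ge.trans hCav.le).trans inf_le_left
  have hd' : cs a ∣ m := hvm ▸ cs_dvd_of_le hva
  refine h.pi_central (isPi_piPart _ d) (lt_of_le_of_ne (h.top _) fun ea => ?_)
    (Nat.Coprime.coprime_dvd_left hd' h.cop)
  have e2 := eq_of_le_of_cs_le hva (by rw [ea, ← hvm]; rfl)
  refine hvc (h.no_piCompl (isPi_piPart _ u) hpn hv (mem_Cx_comm.mp ?_))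
  rw [e2]; exact mem_Cx.mpr hap.symm.eq

theorem Hyp.index_center : (center G).index = m * n := by
  obtain ⟨v, hv, hvc⟩ := h.ex_piCompl
  obtain ⟨x, hx⟩ := h.ex_n
  rw [← h.inter hx hv hvc, index_inf_of_coprime (by rw [hx, h.cs_piCompl hv hvc]; exact h.cop.symm),
    hx, h.cs_piCompl hv hvc, mul_comm]

theorem Hyp.relIndex_center (u : G) :
    (center G).relIndex (centralizer ({u} : Set G)) * cs u = m * n := by
  rw [cs, relIndex_mul_index (center_le_Cx u), h.index_center]

omit h in
theorem pow_relIndex_mem_center {u g : G} (hg : g ∈ centralizer ({u} : Set G)) :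
    g ^ (center G).relIndex (centralizer ({u} : Set G)) ∈ center G := by
  have h1 := pow_index_mem ((center G).subgroupOf (centralizer ({u} : Set G))) ⟨g, hg⟩
  exact mem_subgroupOf.mp h1

theorem Hyp.relIndex_n {u : G} (hu : cs u = n) :
    (center G).relIndex (centralizer ({u} : Set G)) = m :=
  Nat.eq_of_mul_eq_mul_right (by have := h.one_lt; omega) (hu ▸ h.relIndex_center u)

theorem Hyp.relIndex_m {u : G} (hu : cs u = m) :
    (center G).relIndex (centralizer ({u} : Set G)) = n := by
  refine Nat.eq_of_mul_eq_mul_right (m := m) (by have := h.lt; omega) ?_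
  rw [mul_comm n m, ← h.relIndex_center u, hu]

/-- Non-central `π`-elements have class size `n`. -/
theorem Hyp.cs_pi {u : G} (hu : IsPi (piOf m) u) (huc : u ∉ center G) : cs u = n := by
  have hne : cs u ≠ m := fun e =>
    huc (mem_of_pow_mem_of_coprime (isPi_coprime h.cop hu)
      (h.relIndex_m e ▸ pow_relIndex_mem_center (mem_Cx_self u)))
  have hle := h.second _ (lt_of_le_of_ne (h.top _) hne)
  have hnov : ∀ v ∈ centralizer ({u} : Set G), IsPiCompl (piOf m) v → v ∈ center G := by
    intro v hv hvπ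
    by_contra hvc
    have hvm := h.cs_piCompl hvπ hvc
    have hC := Cx_mul_eq_inf hu hvπ (mem_Cx.mp (mem_Cx_comm.mp hv))
    have e : centralizer ({u * v} : Set G) = centralizer ({v} : Set G) :=
      eq_of_le_of_cs_le (hC.le.trans inf_le_right) (hvm ▸ h.top _)
    exact huc (h.pi_central hu (lt_of_le_of_ne (h.top _) hne) (Nat.Coprime.coprime_dvd_left
      (hvm ▸ cs_dvd_of_le ((e.ge.trans hC.le).trans inf_le_left)) h.cop))
  have hcop : ((center G).relIndex (centralizer ({u} : Set G))).Coprime n := by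
    refine Nat.coprime_of_dvd fun r hr h1 h2 => ?_
    haveI := Fact.mk hr
    obtain ⟨q, hq⟩ := exists_prime_orderOf_dvd_card'
      (G := ↥(centralizer ({u} : Set G)) ⧸ (center G).subgroupOf (centralizer ({u} : Set G))) r h1
    obtain ⟨⟨c, hc⟩, rfl⟩ := QuotientGroup.mk'_surjective _ q
    have hc' : piPart (piOf m) c ∈ centralizer ({u} : Set G) := pow_mem hc _
    have e : QuotientGroup.mk' ((center G).subgroupOf (centralizer ({u} : Set G))) ⟨c, hc⟩ =
        QuotientGroup.mk' _ ⟨piPart (piOf m) c, hc'⟩ := by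
      refine (QuotientGroup.eq.mpr (mem_subgroupOf.mpr ?_)).symm
      exact hnov _ (mul_mem (inv_mem hc') hc) (isPiCompl_piComplPart _ c)
    have hd : r ∣ orderOf (piPart (piOf m) c) := by
      rw [← hq, e, ← Subgroup.orderOf_mk _ hc']
      exact orderOf_map_dvd _ _
    exact hr.not_dvd_one (h.cop ▸ Nat.dvd_gcd (isPi_piPart (piOf m) c r hr hd) h2)
  refine le_antisymm hle (Nat.le_of_dvd (cs_pos u) ?_)
  have := h.relIndex_center u
  exact hcop.symm.dvd_of_dvd_mul_left (this ▸ Dvd.intro_left m rfl)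

/-- All elements of class size `n` have the same centralizer. -/
theorem Hyp.Cx_n {a b : G} (ha : cs a = n) (hb : cs b = n) :
    centralizer ({a} : Set G) = centralizer ({b} : Set G) := by
  suffices H : ∀ a b : G, cs a = n → cs b = n →
      centralizer ({a} : Set G) ≤ centralizer ({b} : Set G) from
    le_antisymm (H a b ha hb) (H b a hb ha)
  -- non-central `π`-elements commute
  have hcomm : ∀ u w : G, cs u = n → cs w = n → u ∈ centralizer ({w} : Set G) := by
    intro u w hu hw
    set N := normalClosure ({u} : Set G) ⊔ center G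
    have hN : N ≤ centralizer ({u} : Set G) := by
      refine sup_le ?_ (center_le_Cx u)
      rw [normalClosure, closure_le]
      intro c hc
      obtain ⟨s, hs, hsc⟩ := Group.mem_conjugatesOfSet_iff.mp hc
      rw [Set.mem_singleton_iff.mp hs, isConj_iff] at hsc
      obtain ⟨g, hg⟩ := hsc
      exact mem_Cx.mpr ((h.n_facts hu c ⟨g, hg⟩ u (self_mem_cls u)).1).eq
    have h1 : (centralizer ({w} : Set G)).relIndex N ∣ m := by
      refine (relIndex_dvd_of_le_left N (center_le_Cx w)).trans ?_
      rw [← h.relIndex_n hu, ← relIndex_mul_relIndex _ _ _ le_sup_right hN]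
      exact dvd_mul_right _ _
    have h2 : (centralizer ({w} : Set G)).relIndex N ∣ n := by
      rw [← hw]; exact relIndex_dvd_index_normal N _
    exact relIndex_eq_one.mp (Nat.eq_one_of_dvd_coprimes h.cop h1 h2)
      (mem_sup_left (subset_normalClosure (Set.mem_singleton u)))
  intro a b ha hb g hg
  obtain ⟨-, hCa⟩ := h.piPart_n ha
  rw [← hCa] at hg
  have hq : piComplPart (piOf m) g ∈ center G :=
    h.no_piCompl (isPi_piPart _ a) (by rw [cs, hCa]; exact ha) (isPiCompl_piComplPart _ g)
      (mem_Cx.mpr (commute_piComplPart _ (mem_Cx.mp hg).symm).symm.eq)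
  rw [← piPart_mul (piOf m) g]
  refine mul_mem ?_ (center_le_Cx b hq)
  by_cases hp : piPart (piOf m) g ∈ center G
  · exact center_le_Cx b hp
  · exact hcomm _ _ (h.cs_pi (isPi_piPart _ g) hp) hb

theorem Hyp.normal_n {x : G} (hx : cs x = n) : (centralizer ({x} : Set G)).Normal := by
  refine ⟨fun c hc g => ?_⟩
  have := conj_mem_Cx_conj (g := g) hc
  rwa [h.Cx_n ((cs_conj g x).trans hx) hx] at this

/-- An element of `C(x)` is central, or has class size `n`. -/
theorem Hyp.cs_of_mem_n {x g : G} (hx : cs x = n) (hg : g ∈ centralizer ({x} : Set G))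
    (hgc : g ∉ center G) : cs g = n := by
  obtain ⟨-, hCx⟩ := h.piPart_n hx
  rw [← hCx] at hg
  have hq : piComplPart (piOf m) g ∈ center G :=
    h.no_piCompl (isPi_piPart _ x) (by rw [cs, hCx]; exact hx) (isPiCompl_piComplPart _ g)
      (mem_Cx.mpr (commute_piComplPart _ (mem_Cx.mp hg).symm).symm.eq)
  have hp : piPart (piOf m) g ∉ center G := fun hp => hgc (by
    rw [← piPart_mul (piOf m) g]; exact mul_mem hp hq)
  rw [cs, ← piPart_mul (piOf m) g, Cx_mul_central _ hq]
  exact h.cs_pi (isPi_piPart _ g) hp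

theorem Hyp.comm_n {x : G} (hx : cs x = n) {a b : G} (ha : a ∈ centralizer ({x} : Set G))
    (hb : b ∈ centralizer ({x} : Set G)) : a * b = b * a := by
  by_cases hac : a ∈ center G
  · exact (mem_center_iff.mp hac b).symm
  rw [← h.Cx_n (h.cs_of_mem_n hx ha hac) hx] at hb
  exact (mem_Cx.mp hb).symm

/-- Commutators of `C(x)` with `C(v)` are central only if trivial. -/
theorem Hyp.commute_of_comm_central {x v a b : G} (hx : cs x = n) (hv : cs v = m)
    (ha : a ∈ centralizer ({x} : Set G)) (hb : b ∈ centralizer ({v} : Set G))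
    (hz : a * b * a⁻¹ * b⁻¹ ∈ center G) : Commute a b := by
  set z := a * b * a⁻¹ * b⁻¹ with hzdef
  have e : a * b * a⁻¹ = z * b := by rw [hzdef]; group
  have hb' : b ^ n ∈ center G := h.relIndex_m hv ▸ pow_relIndex_mem_center hb
  have ha' : a ^ m ∈ center G := h.relIndex_n hx ▸ pow_relIndex_mem_center ha
  have hzb : Commute z b := (mem_center_iff.mp hz b).symm
  have hn1 : z ^ n = 1 := by
    have e1 : (a * b * a⁻¹) ^ n = z ^ n * b ^ n := by rw [e, hzb.mul_pow]
    rw [conj_pow, mem_center_iff.mp hb' a, mul_inv_cancel_right] at e1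
    exact right_eq_mul.mp e1
  have hm1 : z ^ m = 1 := by
    have e1 : ∀ i : ℕ, a ^ i * b * (a ^ i)⁻¹ = z ^ i * b := by
      intro i
      induction i with
      | zero => simp
      | succ i ih =>
        calc a ^ (i + 1) * b * (a ^ (i + 1))⁻¹ = a * (a ^ i * b * (a ^ i)⁻¹) * a⁻¹ := by
              rw [pow_succ']; group
          _ = a * z ^ i * b * a⁻¹ := by rw [ih]; group
          _ = z ^ i * (a * b * a⁻¹) := by rw [mem_center_iff.mp (pow_mem hz i) a]; group
          _ = z ^ (i + 1) * b := by rw [e, pow_succ]; exact (mul_assoc _ _ _).symm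
    have e2 := e1 m
    rw [← mem_center_iff.mp ha' b, mul_inv_cancel_right] at e2
    exact right_eq_mul.mp e2
  have hz1 : z = 1 := orderOf_eq_one_iff.mp (Nat.eq_one_of_dvd_coprimes h.cop
    (orderOf_dvd_of_pow_eq_one hm1) (orderOf_dvd_of_pow_eq_one hn1))
  rw [hz1, one_mul] at e
  exact mul_inv_eq_iff_eq_mul.mp e

theorem Hyp.Cx_piCompl {v w : G} (hv : IsPiCompl (piOf m) v) (hvc : v ∉ center G)
    (hw : IsPiCompl (piOf m) w) (hwc : w ∉ center G) (hwv : w ∈ centralizer ({v} : Set G)) :
    centralizer ({w} : Set G) = centralizer ({v} : Set G) := by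
  obtain ⟨x, hx⟩ := h.ex_n
  have hwm := h.cs_piCompl hw hwc
  have hvm := h.cs_piCompl hv hvc
  have hle : centralizer ({v} : Set G) ≤ centralizer ({w} : Set G) := by
    intro u hu
    obtain ⟨k, hk, c, hc, rfl⟩ := exists_mul (u := x) (w := w) (by rw [hx, hwm]; exact h.cop.symm) u
    have hc' : c * w * c⁻¹ = w := mem_Cx_iff_conj.mp hc
    have e : k * w * k⁻¹ * w⁻¹ = k * c * w * (k * c)⁻¹ * w⁻¹ :=
      calc k * w * k⁻¹ * w⁻¹ = k * (c * w * c⁻¹) * k⁻¹ * w⁻¹ := by rw [hc']
        _ = _ := by group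
    have h1 : k * w * k⁻¹ * w⁻¹ ∈ centralizer ({v} : Set G) := by
      rw [e]; exact mul_mem (mul_mem (mul_mem hu hwv) (inv_mem hu)) (inv_mem hwv)
    have h2 : k * w * k⁻¹ * w⁻¹ ∈ centralizer ({x} : Set G) := by
      rw [mul_assoc, mul_assoc, ← mul_assoc w]
      exact mul_mem hk ((h.normal_n hx).conj_mem _ (inv_mem hk) w)
    have hz : k * w * k⁻¹ * w⁻¹ ∈ center G := h.inter hx hv hvc ▸ mem_inf.mpr ⟨h2, h1⟩
    exact mul_mem (mem_Cx.mpr (h.commute_of_comm_central hx hwm hk (mem_Cx_self w) hz).eq) hc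
  exact (eq_of_le_of_cs_le hle (by rw [hwm, ← hvm]; rfl)).symm

/-- Non-central elements of `C(v)` have the same centralizer as `v`. -/
theorem Hyp.Cx_of_mem_m {v a : G} (hv : IsPiCompl (piOf m) v) (hvc : v ∉ center G)
    (ha : a ∈ centralizer ({v} : Set G)) (hac : a ∉ center G) :
    centralizer ({a} : Set G) = centralizer ({v} : Set G) := by
  have hp : piPart (piOf m) a ∈ center G := by
    by_contra hp
    have hpn := h.cs_pi (isPi_piPart _ a) hp
    exact hp (h.inter hpn hv hvc ▸ mem_inf.mpr ⟨mem_Cx_self _, pow_mem ha _⟩)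
  have hq : piComplPart (piOf m) a ∉ center G := fun hq => hac (by
    rw [← piPart_mul (piOf m) a]; exact mul_mem hp hq)
  have hqv : piComplPart (piOf m) a ∈ centralizer ({v} : Set G) :=
    mul_mem (inv_mem (pow_mem ha _)) ha
  conv_lhs => rw [← piPart_mul (piOf m) a, (commute_parts (piOf m) a).eq, Cx_mul_central _ hp]
  exact h.Cx_piCompl hv hvc (isPiCompl_piComplPart _ a) hq hqv

theorem Hyp.piCompl_of_m {y : G} (hy : cs y = m) : piComplPart (piOf m) y ∉ center G ∧
    centralizer ({y} : Set G) = centralizer ({piComplPart (piOf m) y} : Set G) := by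
  have hq : piComplPart (piOf m) y ∉ center G := by
    intro hq
    have e : cs y = cs (piPart (piOf m) y) := by
      rw [cs, cs]; conv_lhs => rw [← piPart_mul (piOf m) y, Cx_mul_central _ hq]
    by_cases hp : piPart (piOf m) y ∈ center G
    · rw [cs_eq_one_iff.mpr hp, hy] at e
      have := h.one_lt; have := h.lt; omega
    · rw [h.cs_pi (isPi_piPart _ y) hp, hy] at e
      have := h.lt; omega
  refine ⟨hq, eq_of_le_of_cs_le (Cx_eq_inf (piOf m) y ▸ inf_le_right) ?_⟩
  rw [h.cs_piCompl (isPiCompl_piComplPart _ y) hq, ← hy]; rfl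

end CfsgLib.ClassCoprime69
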